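import Cfsg.Agent.Lib.S3Fpf.ClassTwo

/-!
A symmetric group of degree 3 acting without fixed points on a module (owner: helper77).

Main results (namespace `Cfsg.Agent.S3Fpf`):
* `commute_of_module` : if `K` of order invertible in `F` is represented faithfully and compatibly with `S₃`
  whose elements sum to zero, then `K` is abelian
* `central_of_module` : an abelian normal invariant subgroup of order invertible in `F` is central
-/

set_option autoImplicit false

namespace Cfsg.Agent.S3Fpf

universe u v w

variable {F : Type v} [Field F] [IsAlgClosed F] {R : Type w} [Ring R] [Algebra F R]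

/-- the action on an invariant subgroup -/
@[reducible] def subAction {K : Type u} [Group K] [MulDistribMulAction S3 K] (H : Subgroup K)
    (hH : ∀ (a : S3), ∀ x ∈ H, a • x ∈ H) : MulDistribMulAction S3 H where
  smul a x := ⟨a • (x : K), hH a x x.2⟩
  one_smul x := Subtype.ext (one_smul S3 (x : K))
  mul_smul a b x := Subtype.ext (mul_smul a b (x : K))
  smul_mul a x y := Subtype.ext (smul_mul' a (x : K) (y : K))
  smul_one a := Subtype.ext (smul_one a)

theorem central_of_module {K : Type u} [Group K] [Finite K] [MulDistribMulAction S3 K]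
    (rep : K →* R) (sig : S3 →* R) (inj : Function.Injective rep)
    (compat : ∀ (a : S3) (g : K), sig a * rep g = rep (a • g) * sig a) (sumS : ∑ a : S3, sig a = 0)
    (coprime : (Nat.card K).Coprime 6) (fixed : ∀ g : K, (∀ a : S3, a • g = g) → g = 1)
    (B : Subgroup K) (normal : B.Normal) (invariant : ∀ (a : S3), ∀ b ∈ B, a • b ∈ B)
    (comm : ∀ b ∈ B, ∀ c ∈ B, b * c = c * b) (cardB : (Nat.card B : F) ≠ 0) : B ≤ Subgroup.center K := by
  let D : Data K F R := ⟨rep, sig, B, normal, invariant, comm, inj, compat, sumS, cardB, coprime, fixed⟩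
  exact fun b hb => Subgroup.mem_center_iff.mpr fun g => D.central g hb

theorem exists_pow_eq_bot_lt {A : Type*} [CommGroup A] [Finite A] [Nontrivial A] {r : ℕ} [Fact r.Prime]
    (hA : IsPGroup r A) : (powMonoidHom r : A →* A).range ≠ ⊤ := by
  intro h
  have hinj : Function.Injective (powMonoidHom r : A →* A) :=
    Finite.injective_iff_surjective.mpr (MonoidHom.range_eq_top.mp h)
  obtain ⟨a, ha⟩ := exists_ne (1 : A)
  obtain ⟨k, hk⟩ := hA a
  induction k with
  | zero => exact ha (by simpa using hk)
  | succ k ih =>
    refine ih (hinj ?_)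
    simpa [← pow_mul, ← pow_succ] using hk

theorem commute_of_module (n : ℕ) : ∀ (K : Type u) [Group K] [Finite K] [MulDistribMulAction S3 K],
    Nat.card K ≤ n → Group.IsSolvable K → (Nat.card K).Coprime 6 →
    (∀ g : K, (∀ a : S3, a • g = g) → g = 1) → (Nat.card K : F) ≠ 0 →
    ∀ (rep : K →* R) (sig : S3 →* R), Function.Injective rep →
      (∀ (a : S3) (g : K), sig a * rep g = rep (a • g) * sig a) → ∑ a : S3, sig a = 0 →
      ∀ x y : K, x * y = y * x := by
  induction n with
  | zero =>
    intro K _ _ _ hn
    have := Nat.card_pos (α := K)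
    omega
  | succ n ih =>
    intro K _ _ _ hn hK hcop hfix hF rep sig hinj hcompat hsum
    by_contra hna
    have hcardF : ∀ H : Subgroup K, (Nat.card H : F) ≠ 0 := fun H h => hF (by
      obtain ⟨c, hc⟩ := H.card_subgroup_dvd_card
      rw [hc, Nat.cast_mul, h, zero_mul])
    have hproper : ∀ H : Subgroup K, H ≠ ⊤ → (∀ (a : S3), ∀ x ∈ H, a • x ∈ H) →
        ∀ x ∈ H, ∀ y ∈ H, x * y = y * x := by
      intro H hne hH x hx y hy
      letI := subAction H hH
      have hlt : Nat.card H < Nat.card K := by
        refine lt_of_le_of_ne (Subgroup.card_le_card_group H) fun h => hne (Subgroup.eq_top_of_card_eq H h)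
      exact congrArg Subtype.val (ih H (by omega) inferInstance
        (hcop.coprime_dvd_left H.card_subgroup_dvd_card)
        (fun g hg => Subtype.ext (hfix g fun a => congrArg Subtype.val (hg a))) (hcardF H)
        (rep.comp H.subtype) sig (hinj.comp Subtype.val_injective) (fun a g => hcompat a g) hsum
        ⟨x, hx⟩ ⟨y, hy⟩)
    have hcentral : ∀ H : Subgroup K, H.Normal → H ≠ ⊤ → (∀ (a : S3), ∀ x ∈ H, a • x ∈ H) →
        H ≤ Subgroup.center K := fun H hn' hne hH =>
      central_of_module rep sig hinj hcompat hsum hcop hfix H hn' hH (hproper H hne hH) (hcardF H)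
    have hchar : ∀ H : Subgroup K, H.Characteristic → ∀ (a : S3), ∀ x ∈ H, a • x ∈ H := fun H hc a x hx =>
      (Subgroup.characteristic_iff_map_le.mp hc (MulDistribMulAction.toMulEquiv K a)) ⟨x, hx, rfl⟩
    have hder : commutator K ≤ Subgroup.center K := by
      refine hcentral _ inferInstance ?_ (hchar _ inferInstance)
      intro h
      apply hna
      have hall : ∀ m, derivedSeries K m = ⊤ := fun m => by
        induction m with
        | zero => exact derivedSeries_zero K
        | succ m ihm => rw [derivedSeries_succ, ihm, ← commutator_def, h]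
      obtain ⟨m, hm⟩ := hK.solvable
      rw [hall m] at hm
      intro x y
      have hx : x = 1 := Subgroup.mem_bot.mp (hm ▸ Subgroup.mem_top x)
      rw [hx, one_mul, mul_one]
    haveI : Group.IsNilpotent K := by
      refine Subgroup.isNilpotent_of_ker_le_center (Abelianization.of : K →* Abelianization K) ?_
      rwa [Abelianization.ker_of]
    have hnt : Nontrivial K := by
      rcases subsingleton_or_nontrivial K with h | h
      · exact absurd (fun x y => Subsingleton.elim _ _) hna
      · exact h
    by_cases hr : ∃ r : ℕ, r.Prime ∧ IsPGroup r K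
    · obtain ⟨r, hr, hKr⟩ := hr
      haveI := Fact.mk hr
      obtain ⟨k, hk⟩ := IsPGroup.iff_card.mp hKr
      have hk0 : k ≠ 0 := by
        rintro rfl
        exact (Finite.one_lt_card (α := K)).ne' (by simpa using hk)
      have hrd : r ∣ Nat.card K := hk ▸ dvd_pow_self r hk0
      have hr6 : r.Coprime 6 := hcop.coprime_dvd_left hrd
      have hr2 : r ≠ 2 := by rintro rfl; norm_num at hr6
      have hr3 : r ≠ 3 := by rintro rfl; norm_num at hr6
      have hrF : (r : F) ≠ 0 := fun h => hF (by rw [hk, Nat.cast_pow, h, zero_pow hk0])
      let H : Subgroup K := (powMonoidHom r : Abelianization K →* Abelianization K).range.comap Abelianization.of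
      haveI : Nontrivial (Abelianization K) := by
        rcases subsingleton_or_nontrivial (Abelianization K) with h | h
        · exfalso
          apply hna
          intro x y
          have hle : (⊤ : Subgroup K) ≤ Subgroup.center K := fun z _ => hder (by
            rw [← Abelianization.ker_of]; exact Subsingleton.elim _ _)
          exact (Subgroup.mem_center_iff.mp (hle (Subgroup.mem_top y)) x)
        · exact h
      have hof : Function.Surjective (Abelianization.of : K →* Abelianization K) := fun q =>
        QuotientGroup.mk_surjective q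
      have hne : H ≠ ⊤ := by
        intro h
        apply exists_pow_eq_bot_lt (r := r) (hKr.of_surjective Abelianization.of hof)
        rw [eq_top_iff]
        intro q _
        obtain ⟨z, rfl⟩ := hof q
        exact (show z ∈ H from h ▸ Subgroup.mem_top z)
      have hH : ∀ (a : S3), ∀ x ∈ H, a • x ∈ H := by
        rintro a x ⟨q, hq⟩
        obtain ⟨z, rfl⟩ := hof q
        refine ⟨Abelianization.of (a • z), ?_⟩
        have := congrArg (Abelianization.map (MulDistribMulAction.toMonoidHom K a)) hq
        simpa [map_pow, Abelianization.map_of] using this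
      haveI : H.Normal := (inferInstance : (powMonoidHom r : Abelianization K →* Abelianization K).range.Normal).comap _
      have hHc := hcentral H inferInstance hne hH
      let D : Data K F R := ⟨rep, sig, Subgroup.center K, inferInstance, hchar _ inferInstance,
        fun b hb c _ => (Subgroup.mem_center_iff.mp hb c).symm, hinj, hcompat, hsum, hcardF _, hcop, hfix⟩
      exact hna (D.commute_of_classTwo (r := r) hr2 hr3 hrF (fun b hb g => Subgroup.mem_center_iff.mp hb g)
        (fun a b => hder (Subgroup.commutator_mem_commutator (Subgroup.mem_top a) (Subgroup.mem_top b)))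
        (fun x => hHc ⟨Abelianization.of x, by rw [powMonoidHom_apply, map_pow]⟩))
    · push Not at hr
      have hnorm : ∀ (p : ℕ) (_hp : Fact p.Prime) (P : Sylow p K), (↑P : Subgroup K).Normal :=
        ((Group.isNilpotent_of_finite_tfae (G := K)).out 0 3 rfl rfl).mp ‹_›
      have htfae := (Group.isNilpotent_of_finite_tfae (G := K)).out 0 4
      obtain ⟨e⟩ := htfae.mp inferInstance
      apply hna
      intro x y
      obtain ⟨f, rfl⟩ := e.surjective x
      obtain ⟨g, rfl⟩ := e.surjective y
      rw [← map_mul, ← map_mul]
      congr 1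
      funext p P
      have hp : (p : ℕ).Prime := Nat.prime_of_mem_primeFactors p.2
      haveI := Fact.mk hp
      haveI : (P : Subgroup K).Normal :=
        hnorm p (Fact.mk hp) P
      have hne : (P : Subgroup K) ≠ ⊤ := fun h => hr p hp fun z => by
        obtain ⟨m, hm⟩ := P.2 ⟨z, h ▸ Subgroup.mem_top z⟩
        exact ⟨m, congrArg Subtype.val hm⟩
      haveI := Sylow.characteristic_of_normal P ‹_›
      exact Subtype.ext (hproper P hne (hchar _ inferInstance) _ (f p P).2 _ (g p P).2)

end Cfsg.Agent.S3Fpf
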