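import Cfsg.Agent.Lib.S3Fpf.Weights

/-!
A symmetric group of degree 3 acting without fixed points: centrality (owner: helper77).

Main results (namespace `Cfsg.Agent.S3Fpf`):
* `Data.central` : an abelian normal invariant subgroup of `K` is central
* `Data.commute_of_classTwo` : if `K` has class 2 with central quotient of prime exponent, it is abelian
-/

set_option autoImplicit false

namespace Cfsg.Agent.S3Fpf

universe u v w

set_option synthInstance.maxSize 20000 in
theorem invol_cases : ∀ τ υ : S3, τ ≠ 1 → τ * τ = 1 → υ ≠ 1 → υ * υ = 1 →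
    υ = τ ∨ υ = rot * τ * (rot * rot) ∨ υ = rot * rot * τ * rot := by decide +kernel

set_option synthInstance.maxSize 20000 in
theorem elem_cases : ∀ τ a : S3, τ ≠ 1 → τ * τ = 1 →
    a = 1 ∨ a = rot ∨ a = rot * rot ∨ a = τ ∨ a = τ * rot ∨ a = τ * (rot * rot) := by decide +kernel

set_option synthInstance.maxSize 20000 in
theorem invol_rels : ∀ τ : S3, τ ≠ 1 → τ * τ = 1 →
    τ * rot = rot * rot * τ ∧ τ * (rot * rot) = rot * τ := by decide +kernel

set_option synthInstance.maxSize 20000 in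
theorem two_invol : ∀ a : S3, ∃ x y : S3, x ≠ 1 ∧ x * x = 1 ∧ y ≠ 1 ∧ y * y = 1 ∧
    (a = x * y ∨ a = x) := by decide +kernel

theorem rot_three : rot * (rot * rot) = 1 ∧ rot * rot * rot = 1 := by decide +kernel

section
variable {K : Type u} [Group K] [Finite K] [MulDistribMulAction S3 K]

/-- the elements `g⁻¹ (υ • g)` for involutions `υ` generate -/
theorem closure_invol_eq_top (hcop : (Nat.card S3).Coprime (Nat.card K)) (hs : Group.IsSolvable S3)
    (hfix : ∀ g : K, (∀ a : S3, a • g = g) → g = 1) :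
    Subgroup.closure {x : K | ∃ (g : K) (υ : S3), υ ≠ 1 ∧ υ * υ = 1 ∧ g⁻¹ * υ • g = x} = ⊤ := by
  set S := {x : K | ∃ (g : K) (υ : S3), υ ≠ 1 ∧ υ * υ = 1 ∧ g⁻¹ * υ • g = x} with hS
  have hinv : ∀ (a : S3), ∀ x ∈ Subgroup.closure S, a • x ∈ Subgroup.closure S := by
    intro a x hx
    suffices h : Subgroup.closure S ≤ (Subgroup.closure S).comap (MulDistribMulAction.toMonoidHom K a) from h hx
    rw [Subgroup.closure_le]
    rintro x ⟨g, υ, h1, h2, rfl⟩
    refine Subgroup.subset_closure ⟨a • g, a * υ * a⁻¹, ?_, ?_, ?_⟩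
    · intro h
      apply h1
      rwa [mul_inv_eq_one, mul_eq_left] at h
    · rw [show a * υ * a⁻¹ * (a * υ * a⁻¹) = a * (υ * υ) * a⁻¹ by group, h2, mul_one, mul_inv_cancel]
    · simp [smul_mul', smul_inv', mul_smul]
  refine eq_top_iff.mpr fun g _ => ?_
  have key : ∀ (a : S3) (g : K), g⁻¹ * a • g ∈ Subgroup.closure S := by
    intro a g
    obtain ⟨x, y, hx1, hx2, hy1, hy2, h | h⟩ := two_invol a <;> subst h
    · have h1 : g⁻¹ * (x * y) • g = (g⁻¹ * x • g) * x • (g⁻¹ * y • g) := by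
        rw [smul_mul', smul_inv', mul_smul]; group
      rw [h1]
      exact mul_mem (Subgroup.subset_closure ⟨g, x, hx1, hx2, rfl⟩)
        (hinv x _ (Subgroup.subset_closure ⟨g, y, hy1, hy2, rfl⟩))
    · exact Subgroup.subset_closure ⟨g, a, hx1, hx2, rfl⟩
  obtain ⟨c, hc, hcg⟩ := Coprime.exists_smul_fixed_of_coset hcop (Or.inl hs) hinv (g := g) fun a => by
    have := key a g⁻¹
    rw [inv_inv, smul_inv'] at this
    simpa using inv_mem this
  rw [hfix c hc, one_mul] at hcg
  exact (Subgroup.inv_mem_iff _).mp hcg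

/-- the fixed points of a three-cycle commute -/
theorem commute_of_rot_fixed (hfix : ∀ g : K, (∀ a : S3, a • g = g) → g = 1) {x y : K} (hx : rot • x = x)
    (hy : rot • y = y) : x * y = y * x := by
  obtain ⟨τ, hτ1, hτ2⟩ : ∃ τ : S3, τ ≠ 1 ∧ τ * τ = 1 := ⟨Equiv.swap 0 1, by decide, by decide⟩
  obtain ⟨r1, r2⟩ := invol_rels τ hτ1 hτ2
  let C := {c : K // rot • c = c}
  have hrr : ∀ c : K, rot • c = c → (rot * rot) • c = c := fun c hc => by rw [mul_smul, hc, hc]
  have hτC : ∀ c : K, rot • c = c → rot • τ • c = τ • c := fun c hc => by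
    rw [← mul_smul, ← r2, mul_smul, hrr c hc]
  let φ : C → C := fun c => ⟨c.1⁻¹ * τ • c.1, by rw [smul_mul', smul_inv', c.2, hτC _ c.2]⟩
  have hinj : Function.Injective φ := by
    rintro ⟨g, hg⟩ ⟨h, hh⟩ he
    replace he : g⁻¹ * τ • g = h⁻¹ * τ • h := congrArg Subtype.val he
    have hτ : τ • (h * g⁻¹) = h * g⁻¹ := by
      have h1 : τ • h = h * (g⁻¹ * τ • g) := by rw [he]; group
      rw [smul_mul', smul_inv', h1]
      group
    have hr : rot • (h * g⁻¹) = h * g⁻¹ := by rw [smul_mul', smul_inv', hg, hh]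
    refine Subtype.ext (mul_inv_eq_one.mp (hfix _ fun a => ?_)).symm
    rcases elem_cases τ a hτ1 hτ2 with e | e | e | e | e | e <;> subst e <;>
      simp only [mul_smul, one_smul, hτ, hr]
  have hall : ∀ c : K, rot • c = c → τ • c = c⁻¹ := by
    intro c hc
    obtain ⟨⟨g, hg⟩, he⟩ := (Finite.injective_iff_surjective.mp hinj) ⟨c, hc⟩
    replace he : g⁻¹ * τ • g = c := congrArg Subtype.val he
    rw [← he, smul_mul', smul_inv', ← mul_smul, hτ2, one_smul]
    group
  have h := hall (x * y) (by rw [smul_mul', hx, hy])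
  rw [smul_mul', hall x hx, hall y hy, ← mul_inv_rev, inv_inj] at h
  exact h.symm

end

namespace Data

variable {K : Type u} [Group K] [Finite K] [MulDistribMulAction S3 K] {F : Type v} [Field F] [IsAlgClosed F]
  {R : Type w} [Ring R] [Algebra F R] (D : Data K F R)

theorem sig_one : D.sig 1 = 1 := map_one _

theorem mem_ker_self {l : D.W} {g : K} (hg : g ∈ D.ker l) : D.rep g * D.e l = D.e l := hg l (D.inOrb_refl l)

theorem mem_orb_st {l m : D.W} (hl : D.Live l) (hm : D.InOrb l m) : D.st m = D.st l := by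
  obtain ⟨g, rfl⟩ := hm
  exact D.st_kAct hl g

theorem smul_ker_of_st {l : D.W} {a : S3} (ha : a ∈ D.st l) {g : K} (hg : g ∈ D.ker l) : a • g ∈ D.ker l := by
  have := D.smul_mem_ker (a := a) hg
  rwa [D.mem_st.mp ha] at this

theorem inv_mul_smul_mem_ker {l : D.W} (hl : D.Live l) {τ : S3} (hτ : τ ≠ 1) (hst : D.st l = {1, τ}) (g : K) :
    g⁻¹ * τ • g ∈ D.ker l := by
  have key : ∀ m, D.InOrb l m → D.sig τ * D.e m = -D.e m := by
    intro m hm
    have h := D.sum_st m
    rw [D.mem_orb_st hl hm, hst, Finset.sum_pair hτ.symm, D.sig_one, add_mul, one_mul] at h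
    exact eq_neg_of_add_eq_zero_right h
  intro m hm
  obtain ⟨x, hx⟩ := hm
  have hm : D.InOrb l m := ⟨x, hx⟩
  have hgm : D.InOrb l (D.kAct g m) := ⟨g * x, by rw [D.kAct_mul, hx]⟩
  have h1 : D.sig τ * (D.rep g * D.e m) = -(D.rep g * D.e m) := by
    rw [D.e_conj, ← mul_assoc, key _ hgm, neg_mul]
  rw [← mul_assoc, D.compat, mul_assoc, key m hm, mul_neg, neg_inj] at h1
  rw [map_mul, mul_assoc, h1, ← mul_assoc, ← map_mul, inv_mul_cancel, map_one, one_mul]

/-- with a stabiliser of order 2 the kernel contains the commutators -/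
theorem commutator_mem_ker {l : D.W} (hl : D.Live l) {τ : S3} (hτ : τ ≠ 1) (hτ2 : τ * τ = 1)
    (hst : D.st l = {1, τ}) (g h : K) : g * h * g⁻¹ * h⁻¹ ∈ D.ker l := by
  obtain ⟨r1, r2⟩ := invol_rels τ hτ hτ2
  obtain ⟨r3, r3'⟩ := rot_three
  set D1 := D.ker l with hD1
  have hn1 : D1.Normal := D.ker_normal l
  have hA : ∀ g : K, g⁻¹ * τ • g ∈ D1 := D.inv_mul_smul_mem_ker hl hτ hst
  have hτD : ∀ x ∈ D1, τ • x ∈ D1 := fun x hx => D.smul_ker_of_st (by rw [hst]; simp) hx
  have hcomm1 : ∀ x y : K, x ∈ D1 → x * y * x⁻¹ * y⁻¹ ∈ D1 := fun x y hx => by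
    rw [show x * y * x⁻¹ * y⁻¹ = x * (y * x⁻¹ * y⁻¹) by group]
    exact mul_mem hx (hn1.conj_mem _ (inv_mem hx) y)
  have hcomm2 : ∀ x y : K, y ∈ D1 → x * y * x⁻¹ * y⁻¹ ∈ D1 := fun x y hy =>
    mul_mem (hn1.conj_mem y hy x) (inv_mem hy)
  let N : Subgroup K :=
    { carrier := {g | ∀ a : S3, a • g ∈ D1}
      one_mem' := fun a => by rw [smul_one]; exact one_mem _
      mul_mem' := fun hx hy a => by rw [smul_mul']; exact mul_mem (hx a) (hy a)
      inv_mem' := fun hx a => by rw [smul_inv']; exact inv_mem (hx a) }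
  have hNinv : ∀ (a : S3), ∀ x ∈ N, a • x ∈ N := fun a x hx b => by rw [← mul_smul]; exact hx _
  have hNn : N.Normal := ⟨fun x hx g a => by
    rw [smul_mul', smul_mul', smul_inv']; exact hn1.conj_mem _ (hx a) _⟩
  have memN : ∀ x, x ∈ D1 → rot • x ∈ D1 → (rot * rot) • x ∈ D1 → x ∈ N := by
    intro x h0 h1 h2 a
    rcases elem_cases τ a hτ hτ2 with e | e | e | e | e | e <;> subst e
    · rwa [one_smul]
    · exact h1
    · exact h2
    · exact hτD _ h0
    · rw [mul_smul]; exact hτD _ h1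
    · rw [mul_smul]; exact hτD _ h2
  -- meeting of two kernels lies in the third
  have h12 : ∀ c, c ∈ D1 → (rot * rot) • c ∈ D1 → rot • c ∈ D1 := by
    intro c hc hc2
    let π := QuotientGroup.mk' N
    have hτc : π (τ • c) = π ((rot * rot) • c) := by
      rw [QuotientGroup.mk'_eq_mk']
      refine ⟨(τ • c)⁻¹ * (rot * rot) • c, memN _ ?_ ?_ ?_, by group⟩
      · exact mul_mem (inv_mem (hτD _ hc)) hc2
      · rw [smul_mul', smul_inv', ← mul_smul, ← mul_smul, ← r2, r3, one_smul, mul_smul]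
        exact mul_mem (inv_mem (hτD _ hc2)) hc
      · rw [smul_mul', smul_inv', ← mul_smul, ← mul_smul, ← r1]
        have h := inv_mem (hA (rot • c))
        rw [mul_inv_rev, inv_inv, ← mul_smul] at h
        rw [show rot * rot * (rot * rot) = rot by rw [← mul_assoc, r3', one_mul]]
        exact h
    have hπ : ∀ (a : S3) (x y : K), π x = π y → π (a • x) = π (a • y) := by
      intro a x y h
      rw [QuotientGroup.mk'_eq_mk'] at h ⊢
      obtain ⟨z, hz, rfl⟩ := h
      exact ⟨a • z, hNinv a z hz, by rw [smul_mul']⟩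
    have hcm : π c * π (rot • c) = π (rot • c) * π c := by
      rw [← map_mul, ← map_mul, QuotientGroup.mk'_eq_mk']
      refine ⟨(c * rot • c)⁻¹ * (rot • c * c), ?_, by group⟩
      rw [show (c * rot • c)⁻¹ * (rot • c * c) = (rot • c)⁻¹ * c⁻¹ * ((rot • c)⁻¹)⁻¹ * (c⁻¹)⁻¹ by group]
      refine memN _ (hcomm2 _ _ (inv_mem hc)) ?_ ?_
      · simp only [smul_mul', smul_inv']
        exact hcomm1 _ _ (inv_mem (by rwa [← mul_smul]))
      · simp only [smul_mul', smul_inv', ← mul_smul]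
        rw [r3', one_smul]
        exact hcomm1 _ _ (inv_mem hc)
    have hcm' : ∀ a : S3, π (a • c) * π ((a * rot) • c) = π ((a * rot) • c) * π (a • c) := fun a => by
      rw [mul_smul, ← map_mul, ← map_mul, ← smul_mul', ← smul_mul']
      exact hπ a _ _ (by rw [map_mul, map_mul]; exact hcm)
    set p := c * rot • c * (rot * rot) • c with hp
    have hrp : π (rot • p) = π p := by
      have e3 := hcm' (rot * rot)
      rw [r3', one_smul] at e3
      simp only [hp, smul_mul', ← mul_smul]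
      rw [r3, one_smul, map_mul, map_mul, map_mul, map_mul, mul_assoc, e3, ← mul_assoc, ← hcm]
    have hτp : π (τ • p) = π p := by
      have ea : π (τ • rot • c) = π (rot • c) := by
        rw [← mul_smul, r1, mul_smul, hπ (rot * rot) _ _ hτc, ← mul_smul,
          show rot * rot * (rot * rot) = rot by rw [← mul_assoc, r3', one_mul]]
      have eb : π (τ • (rot * rot) • c) = π c := by
        rw [← mul_smul, r2, mul_smul, hπ rot _ _ hτc, ← mul_smul, r3, one_smul]
      have e1 := hcm' rot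
      have e2 := hcm' (rot * rot)
      rw [r3', one_smul] at e2
      simp only [hp, smul_mul', map_mul, hτc, ea, eb]
      rw [mul_assoc, ← hcm, ← mul_assoc, e2, mul_assoc, ← e1, ← mul_assoc]
    have hfixp : ∀ a : S3, π (a • p) = π p := by
      intro a
      rcases elem_cases τ a hτ hτ2 with e | e | e | e | e | e <;> subst e
      · rw [one_smul]
      · exact hrp
      · rw [mul_smul, hπ rot _ _ hrp, hrp]
      · exact hτp
      · rw [mul_smul, hπ τ _ _ hrp, hτp]
      · rw [mul_smul, mul_smul, hπ τ _ _ (hπ rot _ _ hrp), hπ τ _ _ hrp, hτp]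
    obtain ⟨x, hx, hxp⟩ := Coprime.exists_smul_fixed_of_coset D.coprime_card (Or.inl solvableS3) hNinv (g := p)
      fun a => by
        have : π (a • p * p⁻¹) = 1 := by rw [map_mul, map_inv, hfixp, mul_inv_cancel]
        exact (QuotientGroup.eq_one_iff _).mp this
    rw [D.fixed x hx, one_mul, Subgroup.inv_mem_iff] at hxp
    have h := hxp rot
    simp only [hp, smul_mul', ← mul_smul] at h
    rw [r3, one_smul] at h
    exact (Subgroup.mul_mem_cancel_right _ hc2).mp ((Subgroup.mul_mem_cancel_right _ hc).mp h)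
  -- the third kernel
  let D3 : Subgroup K := D1.comap (MulDistribMulAction.toMonoidHom K rot)
  have hn3 : D3.Normal := hn1.comap _
  have hD3 : ∀ x, x ∈ D3 ↔ rot • x ∈ D1 := fun x => Iff.rfl
  let π := QuotientGroup.mk' D3
  have hU : ∀ g : K, π (rot • (g⁻¹ * τ • g)) = (π (g⁻¹ * τ • g))⁻¹ := by
    intro g
    rw [eq_inv_iff_mul_eq_one, ← map_mul]
    refine (QuotientGroup.eq_one_iff _).mpr ((hD3 _).mpr ?_)
    have hu : τ • (g⁻¹ * τ • g) = (g⁻¹ * τ • g)⁻¹ := by
      rw [smul_mul', smul_inv', ← mul_smul, hτ2, one_smul, mul_inv_rev, inv_inv]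
    generalize g⁻¹ * τ • g = u at hu ⊢
    have h := inv_mem (hA (rot • u))
    rw [← mul_smul, r1, mul_smul _ τ, hu, mul_inv_rev, inv_inv, smul_inv', inv_inv] at h
    rwa [smul_mul', ← mul_smul]
  have hUU : ∀ g g' : K, Commute (π (g⁻¹ * τ • g)) (π (g'⁻¹ * τ • g')) := by
    intro g g'
    have hu := hA g
    have hu' := hA g'
    have e := hU g'
    generalize g⁻¹ * τ • g = u at *
    generalize g'⁻¹ * τ • g' = u' at *
    have hc : u * (rot • u') * u⁻¹ * (rot • u')⁻¹ ∈ D3 := by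
      refine (hD3 _).mpr (h12 _ (hcomm1 _ _ hu) ?_)
      simp only [smul_mul', smul_inv', ← mul_smul]
      rw [r3', one_smul]
      exact hcomm2 _ _ hu'
    have h2 : Commute (π u) (π (rot • u')) := by
      have : π (u * (rot • u') * u⁻¹ * (rot • u')⁻¹) = 1 := (QuotientGroup.eq_one_iff _).mpr hc
      rw [map_mul, map_mul, map_mul, map_inv, map_inv, mul_inv_eq_one, mul_inv_eq_iff_eq_mul] at this
      exact this
    rw [e] at h2
    simpa using h2.inv_right
  have hgen : ∀ x ∈ {x : K | ∃ (g : K) (υ : S3), υ ≠ 1 ∧ υ * υ = 1 ∧ g⁻¹ * υ • g = x},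
      π x = 1 ∨ (∃ g, π x = π (g⁻¹ * τ • g)) ∨ ∃ g, π x = (π (g⁻¹ * τ • g))⁻¹ := by
    rintro x ⟨g, υ, h1, h2, rfl⟩
    rcases invol_cases τ υ hτ hτ2 h1 h2 with e | e | e <;> subst e
    · exact Or.inr (Or.inl ⟨g, rfl⟩)
    · refine Or.inr (Or.inr ⟨(rot * rot) • g, ?_⟩)
      rw [← hU]
      simp only [smul_mul', smul_inv', ← mul_smul, r3, one_smul, mul_assoc]
    · refine Or.inl ((QuotientGroup.eq_one_iff _).mpr ((hD3 _).mpr ?_))
      have h := hA (rot • g)
      simp only [smul_mul', smul_inv', ← mul_smul] at h ⊢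
      rwa [show rot * (rot * rot * τ * rot) = τ * rot by rw [← mul_assoc, ← mul_assoc, ← mul_assoc, mul_assoc rot rot rot, r3, one_mul]]
  have hpair : ∀ x ∈ {x : K | ∃ (g : K) (υ : S3), υ ≠ 1 ∧ υ * υ = 1 ∧ g⁻¹ * υ • g = x},
      ∀ y ∈ {x : K | ∃ (g : K) (υ : S3), υ ≠ 1 ∧ υ * υ = 1 ∧ g⁻¹ * υ • g = x}, Commute (π x) (π y) := by
    intro x hx y hy
    rcases hgen x hx with h | ⟨g, h⟩ | ⟨g, h⟩ <;> rcases hgen y hy with h' | ⟨g', h'⟩ | ⟨g', h'⟩ <;>
      simp only [h, h', Commute.one_left, Commute.one_right, Commute.inv_left_iff, Commute.inv_right_iff, hUU]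
  have hall : ∀ x y : K, Commute (π x) (π y) := by
    intro x y
    have hx : x ∈ Subgroup.closure {x : K | ∃ (g : K) (υ : S3), υ ≠ 1 ∧ υ * υ = 1 ∧ g⁻¹ * υ • g = x} := by
      rw [closure_invol_eq_top D.coprime_card solvableS3 D.fixed]; trivial
    have hy : y ∈ Subgroup.closure {x : K | ∃ (g : K) (υ : S3), υ ≠ 1 ∧ υ * υ = 1 ∧ g⁻¹ * υ • g = x} := by
      rw [closure_invol_eq_top D.coprime_card solvableS3 D.fixed]; trivial
    induction hx using Subgroup.closure_induction with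
    | mem a ha =>
      induction hy using Subgroup.closure_induction with
      | mem b hb => exact hpair a ha b hb
      | one => rw [map_one]; exact Commute.one_right _
      | mul b c _ _ e1 e2 => rw [map_mul]; exact e1.mul_right e2
      | inv b _ e1 => rw [map_inv]; exact e1.inv_right
    | one => rw [map_one]; exact Commute.one_left _
    | mul b c _ _ e1 e2 => rw [map_mul]; exact e1.mul_left e2
    | inv b _ e1 => rw [map_inv]; exact e1.inv_left
  have h := (hall ((rot * rot) • g) ((rot * rot) • h)).eq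
  rw [← map_mul, ← map_mul, eq_comm, QuotientGroup.mk'_eq_mk'] at h
  obtain ⟨z, hz, he⟩ := h
  have he' := congrArg (fun t => rot • t) he
  simp only [smul_mul', ← mul_smul, r3, one_smul] at he'
  rw [← he', show h * g * rot • z * g⁻¹ * h⁻¹ = h * g * (rot • z) * (h * g)⁻¹ by group]
  exact hn1.conj_mem _ ((hD3 z).mp hz) _

theorem mem_ker_of_apply {l : D.W} (b : D.B) (h : ∀ m, D.InOrb l m → m b = 1) : (b : K) ∈ D.ker l := by
  intro m hm
  rw [D.rep_mul_e, h m hm, Units.val_one, one_smul]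

theorem mem_ker_of_one (b : D.B) : (b : K) ∈ D.ker (1 : D.W) := by
  refine D.mem_ker_of_apply b fun m hm => ?_
  obtain ⟨g, rfl⟩ := hm
  rfl

theorem inv_mul_smul_fix {l : D.W} (hl : D.Live l) {a : S3} (ha : a ∈ D.st l) (g : K) {m : D.W}
    (hm : D.InOrb l m) : D.kAct (g⁻¹ * a • g) m = m := by
  have hgm : D.InOrb l (D.kAct g m) := by
    obtain ⟨x, hx⟩ := hm
    exact ⟨g * x, by rw [D.kAct_mul, hx]⟩
  have h1 : D.aAct a m = m := D.mem_st.mp ((D.mem_orb_st hl hm).symm ▸ ha)
  have h2 : D.aAct a (D.kAct g m) = D.kAct g m := D.mem_st.mp ((D.mem_orb_st hl hgm).symm ▸ ha)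
  rw [D.aAct_kAct, h1] at h2
  rw [D.kAct_mul, h2, ← D.kAct_mul, inv_mul_cancel, D.kAct_one]

/-- stabiliser as a subgroup -/
def aStab (l : D.W) : Subgroup S3 where
  carrier := {a | D.aAct a l = l}
  one_mem' := D.aAct_one l
  mul_mem' {a b} ha hb := by show D.aAct (a * b) l = l; rw [D.aAct_mul, hb, ha]
  inv_mem' {a} ha := by
    show D.aAct a⁻¹ l = l
    conv_lhs => rw [← (ha : D.aAct a l = l), ← D.aAct_mul, inv_mul_cancel, D.aAct_one]

/-- coset lifting for a stabiliser of order 3 -/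
theorem exists_rot_fixed {l : D.W} (hst : D.st l = {1, rot, rot * rot}) (M : Subgroup K)
    (hM : ∀ a ∈ D.st l, ∀ x ∈ M, a • x ∈ M) (hU : ∀ a ∈ D.st l, ∀ g : K, g⁻¹ * a • g ∈ M) (g : K) :
    ∃ c, rot • c = c ∧ c * g⁻¹ ∈ M := by
  have hcop : (Nat.card (D.aStab l)).Coprime (Nat.card K) :=
    D.coprime_card.coprime_dvd_left (Subgroup.card_subgroup_dvd_card _)
  have hs : Group.IsSolvable S3 := solvableS3
  obtain ⟨c, hc, hcg⟩ := Coprime.exists_smul_fixed_of_coset hcop (Or.inl inferInstance) (N := M)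
    (fun a x hx => hM a.1 (D.mem_st.mpr a.2) x hx) (g := g) fun a => by
      have := inv_mem (hU a.1 (D.mem_st.mpr a.2) g⁻¹)
      rw [inv_inv, smul_inv', mul_inv_rev, inv_inv] at this
      exact this
  exact ⟨c, hc ⟨rot, D.mem_st.mp (by rw [hst]; simp)⟩, hcg⟩

/-- with a stabiliser of order 3 the kernel contains the commutators with `B` -/
theorem commutator_B_mem_ker {l : D.W} (hl : D.Live l) (hst : D.st l = {1, rot, rot * rot}) (g : K)
    {b : K} (hb : b ∈ D.B) : g * b * g⁻¹ * b⁻¹ ∈ D.ker l := by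
  obtain ⟨r3, r3'⟩ := rot_three
  have hn := D.ker_normal l
  let π := QuotientGroup.mk' (D.ker l)
  let M : Subgroup K :=
    { carrier := {x | ∀ b ∈ D.B, Commute (π x) (π b)}
      one_mem' := fun b _ => by rw [map_one]; exact Commute.one_left _
      mul_mem' := fun hx hy b hb => by rw [map_mul]; exact (hx b hb).mul_left (hy b hb)
      inv_mem' := fun hx b hb => by rw [map_inv]; exact (hx b hb).inv_left }
  have hM : ∀ a ∈ D.st l, ∀ x ∈ M, a • x ∈ M := by
    intro a ha x hx c hc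
    have h := hx (a⁻¹ • c) (D.invariant _ _ hc)
    rw [Commute, SemiconjBy, ← map_mul, ← map_mul, QuotientGroup.mk'_eq_mk'] at h ⊢
    obtain ⟨z, hz, he⟩ := h
    refine ⟨a • z, D.smul_ker_of_st ha hz, ?_⟩
    have he' := congrArg (fun t => a • t) he
    simpa [smul_mul', smul_inv_smul] using he'
  have hU : ∀ a ∈ D.st l, ∀ g : K, g⁻¹ * a • g ∈ M := by
    intro a ha g c hc
    have hfix : ∀ m, D.InOrb l m → D.kAct (g⁻¹ * a • g) m = m := fun m hm => D.inv_mul_smul_fix hl ha g hm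
    generalize g⁻¹ * a • g = u at hfix ⊢
    have hmem : u * c * u⁻¹ * c⁻¹ ∈ D.B := mul_mem (D.normal.conj_mem c hc u) (inv_mem hc)
    have hk : u * c * u⁻¹ * c⁻¹ ∈ D.ker l := by
      refine D.mem_ker_of_apply ⟨_, hmem⟩ fun m hm => ?_
      have e : (⟨u * c * u⁻¹ * c⁻¹, hmem⟩ : D.B) = ⟨u * c * u⁻¹, D.normal.conj_mem c hc u⟩ * ⟨c, hc⟩⁻¹ :=
        Subtype.ext rfl
      rw [e, map_mul, map_inv, mul_inv_eq_one]
      conv_lhs => rw [← hfix m hm]
      exact congrArg m (Subtype.ext (by simp [mul_assoc]))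
    have : π (u * c * u⁻¹ * c⁻¹) = 1 := (QuotientGroup.eq_one_iff _).mpr hk
    rw [map_mul, map_mul, map_mul, map_inv, map_inv, mul_inv_eq_one, mul_inv_eq_iff_eq_mul] at this
    exact this
  obtain ⟨c, hc, hcg⟩ := D.exists_rot_fixed hst M hM hU g
  have hrb : ∀ x (hx : x ∈ D.B), π (rot • x) = π x := by
    intro x hx
    have hxB : (rot • x)⁻¹ * x ∈ D.B := mul_mem (inv_mem (D.invariant _ _ hx)) hx
    rw [QuotientGroup.mk'_eq_mk']
    refine ⟨(rot • x)⁻¹ * x, ?_, by group⟩
    refine D.mem_ker_of_apply ⟨_, hxB⟩ fun m hm => ?_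
    have ha : D.aAct rot m = m := D.mem_st.mp (by rw [D.mem_orb_st hl hm, hst]; simp)
    have e : (⟨(rot • x)⁻¹ * x, hxB⟩ : D.B) = ⟨rot • x, D.invariant _ _ hx⟩⁻¹ * ⟨x, hx⟩ := Subtype.ext rfl
    rw [e, map_mul, map_inv, inv_mul_eq_one]
    conv_lhs => rw [← ha]
    exact congrArg m (Subtype.ext (by simp))
  have hcM : c ∈ M := by
    intro x hx
    have hx1 := D.invariant rot x hx
    have hx2 := D.invariant rot _ hx1
    have hp : rot • (x * rot • x * rot • rot • x) = x * rot • x * rot • rot • x := by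
      simp only [smul_mul', ← mul_smul, r3, one_smul]
      simp only [mul_smul]
      rw [D.comm _ (mul_mem hx1 hx2) _ hx, mul_assoc]
    have h : π c * π (x * rot • x * rot • rot • x) = π (x * rot • x * rot • rot • x) * π c := by
      rw [← map_mul, ← map_mul, commute_of_rot_fixed D.fixed hc hp]
    rw [map_mul, map_mul, hrb _ hx1, hrb _ hx] at h
    have h3 : Commute (π c) (π x ^ 3) := by
      rw [pow_succ, pow_two]; exact h
    have hco : Nat.Coprime 3 (orderOf x) :=
      ((D.coprime.symm.coprime_dvd_left (by norm_num : 3 ∣ 6)).coprime_dvd_right (orderOf_dvd_natCard x))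
    obtain ⟨j, hj⟩ := exists_pow_eq_self_of_coprime hco
    rw [← hj, map_pow, map_pow]
    exact h3.pow_right j
  have hgM : g ∈ M := by
    have := mul_mem (inv_mem hcg) hcM
    rwa [mul_inv_rev, inv_inv, inv_mul_cancel_right] at this
  have h := (hgM b hb).eq
  refine (QuotientGroup.eq_one_iff _).mp ?_
  show π (g * b * g⁻¹ * b⁻¹) = 1
  rw [map_mul, map_mul, map_mul, map_inv, map_inv, h, mul_inv_cancel_right, mul_inv_cancel]

include D in
/-- an abelian normal invariant subgroup is central -/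
theorem central (g : K) {b : K} (hb : b ∈ D.B) : g * b = b * g := by
  rw [← mul_inv_eq_iff_eq_mul, ← mul_inv_eq_one]
  refine D.eq_one_of_mem_ker fun l hl => ?_
  by_cases h1 : l = 1
  · subst h1
    exact D.mem_ker_of_one ⟨_, mul_mem (D.normal.conj_mem b hb g) (inv_mem hb)⟩
  replace hl : D.Live l := ⟨hl, h1⟩
  rcases D.st_cases hl with ⟨τ, hτ, hτ2, hst⟩ | hst
  · exact D.commutator_mem_ker hl hτ hτ2 hst g b
  · exact D.commutator_B_mem_ker hl hst g hb

end Data

end Cfsg.Agent.S3Fpf
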