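import Cfsg.Agent.Lib.S3Fpf.Central

/-!
A symmetric group of degree 3 acting without fixed points: class two (owner: helper77).

Main result (namespace `Cfsg.Agent.S3Fpf`):
* `Data.commute_of_classTwo` : if `K` has class 2 with central quotient of prime exponent, it is abelian
-/

set_option autoImplicit false

namespace Cfsg.Agent.S3Fpf

universe u v w

theorem mul_pow_classTwo {G : Type*} [Group G] {x y z : G} (hzx : Commute z x) (hzy : Commute z y)
    (h : y * x = x * y * z) : ∀ n : ℕ, (x * y) ^ n = x ^ n * y ^ n * z ^ (n.choose 2) := by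
  have key : ∀ n : ℕ, y ^ n * x = x * y ^ n * z ^ n := by
    intro n
    induction n with
    | zero => simp
    | succ n ih =>
      calc y ^ (n + 1) * x = y ^ n * (y * x) := by rw [pow_succ, mul_assoc]
        _ = y ^ n * x * (y * z) := by rw [h]; simp [mul_assoc]
        _ = x * y ^ n * (z ^ n * (y * z)) := by rw [ih]; simp [mul_assoc]
        _ = x * y ^ n * (y * (z ^ n * z)) := by rw [← mul_assoc (z ^ n), (hzy.pow_left n).eq]; simp [mul_assoc]
        _ = x * y ^ (n + 1) * z ^ (n + 1) := by rw [pow_succ, pow_succ]; simp [mul_assoc]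
  intro n
  induction n with
  | zero => simp
  | succ n ih =>
    calc (x * y) ^ (n + 1) = x ^ n * y ^ n * z ^ (n.choose 2) * (x * y) := by rw [pow_succ, ih]
      _ = x ^ n * (y ^ n * x) * y * z ^ (n.choose 2) := by
        rw [mul_assoc (x ^ n * y ^ n), ((hzx.pow_left _).mul_right (hzy.pow_left _)).eq]; simp [mul_assoc]
      _ = x ^ n * x * y ^ n * (z ^ n * y) * z ^ (n.choose 2) := by rw [key]; simp [mul_assoc]
      _ = x ^ (n + 1) * y ^ (n + 1) * z ^ ((n + 1).choose 2) := by
        rw [(hzy.pow_left n).eq, Nat.choose_succ_succ, Nat.choose_one_right]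
        simp [mul_assoc, pow_add]

namespace Data

variable {K : Type u} [Group K] [Finite K] [MulDistribMulAction S3 K] {F : Type v} [Field F] [IsAlgClosed F]
  {R : Type w} [Ring R] [Algebra F R] (D : Data K F R)

section
variable (hc : ∀ b ∈ D.B, ∀ g : K, g * b = b * g) (hcomm : ∀ a b : K, a * b * a⁻¹ * b⁻¹ ∈ D.B)

/-- value of a weight on a commutator -/
def cVal (l : D.W) (a b : K) : Fˣ := l ⟨a * b * a⁻¹ * b⁻¹, hcomm a b⟩

include hc in
theorem cVal_mul_left (l : D.W) (a a' b : K) :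
    D.cVal hcomm l (a * a') b = D.cVal hcomm l a b * D.cVal hcomm l a' b := by
  rw [cVal, cVal, cVal, ← map_mul]
  refine congrArg l (Subtype.ext ?_)
  show a * a' * b * (a * a')⁻¹ * b⁻¹ = a * b * a⁻¹ * b⁻¹ * (a' * b * a'⁻¹ * b⁻¹)
  rw [← hc _ (hcomm a b) (a' * b * a'⁻¹ * b⁻¹),
    show a * a' * b * (a * a')⁻¹ * b⁻¹ = a * (a' * b * a'⁻¹ * b⁻¹) * a⁻¹ * (a * b * a⁻¹ * b⁻¹) by group,
    hc _ (hcomm a' b) a, mul_inv_cancel_right]

theorem cVal_skew (l : D.W) (a b : K) : D.cVal hcomm l a b = (D.cVal hcomm l b a)⁻¹ := by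
  rw [cVal, cVal, ← map_inv]
  exact congrArg l (Subtype.ext (by simp [mul_assoc]))

include hc in
theorem cVal_mul_right (l : D.W) (a b b' : K) :
    D.cVal hcomm l a (b * b') = D.cVal hcomm l a b * D.cVal hcomm l a b' := by
  rw [cVal_skew, cVal_mul_left D hc, mul_inv, ← cVal_skew, ← cVal_skew]

theorem cVal_of_commute (l : D.W) {a b : K} (h : a * b = b * a) : D.cVal hcomm l a b = 1 := by
  rw [cVal, ← map_one l]
  exact congrArg l (Subtype.ext (by simp [h]))

include hc in
theorem cVal_left_B (l : D.W) {a : K} (ha : a ∈ D.B) (b : K) : D.cVal hcomm l a b = 1 :=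
  D.cVal_of_commute hcomm l (hc a ha b).symm

/-- commutator pairing -/
def cHom (l : D.W) : K →* K →* Fˣ :=
  MonoidHom.mk' (fun a => MonoidHom.mk' (fun b => D.cVal hcomm l a b) (D.cVal_mul_right hc hcomm l a))
    fun a a' => MonoidHom.ext fun b => D.cVal_mul_left hc hcomm l a a' b

theorem cHom_apply (l : D.W) (a b : K) : D.cHom hc hcomm l a b = D.cVal hcomm l a b := rfl

theorem cHom_smul {l : D.W} {a : S3} (ha : D.aAct a l = l) (x y : K) :
    D.cHom hc hcomm l (a • x) (a • y) = D.cHom hc hcomm l x y := by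
  rw [cHom_apply, cHom_apply, cVal, cVal]
  conv_lhs => rw [← ha]
  exact congrArg l (Subtype.ext (by simp [smul_mul', smul_inv']))

include hc in
theorem kAct_eq (l : D.W) (g : K) : D.kAct g l = l :=
  MonoidHom.ext fun b => congrArg l (Subtype.ext (by
    show g⁻¹ * (b : K) * g = b
    rw [mul_assoc, ← hc _ b.2 g, inv_mul_cancel_left]))

include hc in
theorem e_comm (l : D.W) (g : K) : D.rep g * D.e l = D.e l * D.rep g := by
  rw [D.e_conj, D.kAct_eq hc]

end

variable {r : ℕ} [hr : Fact r.Prime]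

/-- a class two group with central quotient of prime exponent is abelian -/
theorem commute_of_classTwo (hr2 : r ≠ 2) (hr3 : r ≠ 3) (hrF : (r : F) ≠ 0)
    (hc : ∀ b ∈ D.B, ∀ g : K, g * b = b * g) (hcomm : ∀ a b : K, a * b * a⁻¹ * b⁻¹ ∈ D.B)
    (hpow : ∀ x : K, x ^ r ∈ D.B) (x y : K) : x * y = y * x := by
  classical
  rw [← mul_inv_eq_iff_eq_mul, ← mul_inv_eq_one]
  refine D.eq_one_of_mem_ker fun l hl => ?_
  by_cases h1 : l = 1
  · subst h1
    exact D.mem_ker_of_one ⟨_, hcomm x y⟩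
  replace hl : D.Live l := ⟨hl, h1⟩
  rcases D.st_cases hl with ⟨τ, hτ, hτ2, hst⟩ | hst
  · exact D.commutator_mem_ker hl hτ hτ2 hst x y
  obtain ⟨r3, r3'⟩ := rot_three
  have hfl : D.aAct rot l = l := D.mem_st.mp (by rw [hst]; simp)
  set c := D.cHom hc hcomm l with hcdef
  have hcr : ∀ a b, c a b ^ r = 1 := fun a b => by
    rw [← MonoidHom.pow_apply, ← map_pow]
    exact D.cVal_left_B hc hcomm l (hpow a) b
  have hone : ∀ t : Fˣ, t ^ 3 = 1 → t ^ r = 1 → t = 1 := fun t h3 h4 => by
    have := pow_gcd_eq_one.mpr ⟨h3, h4⟩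
    rwa [(Nat.coprime_primes Nat.prime_three hr.out).mpr hr3.symm, pow_one] at this
  let d : K → K := fun g => g⁻¹ * rot • g
  have hd3 : ∀ g, d g * d (rot • g) * d (rot • rot • g) = 1 := fun g => by
    simp only [d, ← mul_smul, mul_assoc]
    rw [r3, one_smul]
    group
  have hdf : ∀ g, rot • d g = d (rot • g) := fun g => by simp [d, smul_mul', smul_inv']
  have hdmul : ∀ g h k, c (d (g * h)) k = c (d g) k * c (d h) k := fun g h k => by
    have e : d (g * h) = h⁻¹ * d g * h * d h := by simp [d, smul_mul', mul_assoc]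
    rw [e, map_mul, map_mul, map_mul, map_inv]
    simp only [MonoidHom.mul_apply, MonoidHom.inv_apply]
    rw [inv_mul_cancel_comm]
  suffices hall : ∀ a b, c a b = 1 by
    refine D.mem_ker_of_apply ⟨_, hcomm x y⟩ fun m hm => ?_
    obtain ⟨g, rfl⟩ := hm
    rw [D.kAct_eq hc]
    exact hall x y
  by_cases hA : ∀ g, c (d g) (rot • d g) = 1
  · have hBf : ∀ a b, c (d (rot • a)) (d (rot • b)) = c (d a) (d b) := fun a b => by
      rw [← hdf, ← hdf]; exact D.cHom_smul hc hcomm hfl _ _
    have hskew : ∀ a b, c a b = (c b a)⁻¹ := fun a b => D.cVal_skew hcomm l a b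
    have hdmulr : ∀ g h k, c k (d (g * h)) = c k (d g) * c k (d h) := fun g h k => by
      rw [hskew, hdmul, mul_inv, ← hskew, ← hskew]
    have hpol : ∀ a b, c (d a) (d (rot • b)) = c (d (rot • a)) (d b) := by
      intro a b
      have h := hA (a * b)
      have h1 := hA a
      have h2 := hA b
      rw [hdf] at h h1 h2
      rw [smul_mul', hdmul, hdmulr, hdmulr, h1, h2, one_mul, mul_one] at h
      rw [hskew (d (rot • a)), ← mul_eq_one_iff_eq_inv]
      exact h
    have hrot : ∀ a b, c (d a) (d (rot • b)) = c (d a) (d b) := by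
      intro a b
      have e2 : ∀ b, c (d a) (d (rot • rot • b)) = c (d a) (d b) := fun b => by rw [hpol, hBf]
      calc c (d a) (d (rot • b)) = c (d a) (d (rot • rot • (rot • b))) := (e2 _).symm
        _ = c (d a) (d b) := by rw [← mul_smul rot rot, ← mul_smul, r3', one_smul]
    have hUU : ∀ a b, c (d a) (d b) = 1 := by
      intro a b
      refine hone _ ?_ (hcr _ _)
      have h := congrArg (c (d a)) (hd3 b)
      rw [map_mul, map_mul, map_one, hrot, hrot, hrot] at h
      rw [pow_succ, pow_two]; exact h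
    have hUk : ∀ g k, c (d g) k = 1 := by
      intro g k
      have hfk : ∀ g k, c (d g) (rot • k) = c (d g) k := fun g k => by
        rw [show rot • k = k * d k by simp [d], map_mul, hUU, mul_one]
      have hfg : ∀ g k, c (d (rot • g)) k = c (d g) k := fun g k => by
        rw [← hfk (rot • g) k, ← hdf, hcdef, D.cHom_smul hc hcomm hfl]
      refine hone _ ?_ (hcr _ _)
      have h := congrArg (fun z => c z k) (hd3 g)
      simp only [map_mul, MonoidHom.mul_apply, map_one, MonoidHom.one_apply, hfg] at h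
      rw [pow_succ, pow_two]; exact h
    let M : Subgroup K :=
      { carrier := {z | ∀ k, c z k = 1}
        one_mem' := fun k => by rw [map_one, MonoidHom.one_apply]
        mul_mem' := fun ha hb k => by rw [map_mul, MonoidHom.mul_apply, ha, hb, one_mul]
        inv_mem' := fun ha k => by rw [map_inv, MonoidHom.inv_apply, ha, inv_one] }
    have hM : ∀ a ∈ D.st l, ∀ z ∈ M, a • z ∈ M := fun a ha z hz k => by
      rw [← smul_inv_smul a k, hcdef, D.cHom_smul hc hcomm (D.mem_st.mp ha)]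
      exact hz _
    have hU : ∀ a ∈ D.st l, ∀ g : K, g⁻¹ * a • g ∈ M := by
      intro a ha g
      simp only [hst, Finset.mem_insert, Finset.mem_singleton] at ha
      rcases ha with rfl | rfl | rfl
      · rw [one_smul, inv_mul_cancel]; exact one_mem _
      · exact hUk g
      · have e : g⁻¹ * (rot * rot) • g = d g * d (rot • g) := by simp [d, mul_smul, mul_assoc]
        rw [e]
        exact mul_mem (hUk g) (hUk (rot • g))
    intro a b
    obtain ⟨a', ha', hab⟩ := D.exists_rot_fixed hst M hM hU a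
    obtain ⟨b', hb', hbb⟩ := D.exists_rot_fixed hst M hM hU b
    have h1 : c a' b' = 1 := D.cVal_of_commute hcomm l (commute_of_rot_fixed D.fixed ha' hb')
    have h2 : c a' b = c a b := by
      have := hab b
      rwa [map_mul, MonoidHom.mul_apply, map_inv, MonoidHom.inv_apply, mul_inv_eq_one] at this
    have h3 : c b' a' = c b a' := by
      have := hbb a'
      rwa [map_mul, MonoidHom.mul_apply, map_inv, MonoidHom.inv_apply, mul_inv_eq_one] at this
    rw [← h2, hskew, ← h3, ← hskew, h1]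
  exfalso
  push_neg at hA
  obtain ⟨g, hζ⟩ := hA
  set u := d g with hu
  set v := rot • d g with hv
  set ζ := c u v with hζdef
  apply hl.1
  set ee := D.e l with hee
  have hek : ∀ x, D.rep x * ee = ee * D.rep x := D.e_comm hc l
  have hSe : D.sig rot * ee = ee * D.sig rot := by rw [hee, D.sig_e, hfl]
  have hB : ∀ z (hz : z ∈ D.B), D.rep z * ee = (l ⟨z, hz⟩ : F) • ee := fun z hz => D.rep_mul_e ⟨z, hz⟩ l
  -- the `r`-th power of `v` is trivial on the corner
  let φ : K →* Fˣ := MonoidHom.mk' (fun z => l ⟨z ^ r, hpow z⟩) fun a b => by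
    have hz : ∀ k, Commute (b⁻¹ * a⁻¹ * b⁻¹⁻¹ * a⁻¹⁻¹) k := fun k => (hc _ (hcomm b⁻¹ a⁻¹) k).symm
    have h := mul_pow_classTwo (hz a) (hz b) (x := a) (y := b) (by group) r
    obtain ⟨k, hk⟩ := hr.out.dvd_choose_self (k := 2) (by norm_num) (lt_of_le_of_ne hr.out.two_le (Ne.symm hr2))
    have h1 : l (⟨_, hcomm b⁻¹ a⁻¹⟩ ^ r.choose 2) = 1 := by
      rw [map_pow, hk, pow_mul]
      show (c b⁻¹ a⁻¹ ^ r) ^ k = 1
      rw [hcr, one_pow]
    rw [← mul_one (l ⟨a ^ r, _⟩ * _), ← h1, ← map_mul, ← map_mul]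
    exact congrArg l (Subtype.ext (by simpa using h))
  have hφf : ∀ z, φ (rot • z) = φ z := fun z => by
    show l ⟨(rot • z) ^ r, _⟩ = l ⟨z ^ r, _⟩
    conv_lhs => rw [← hfl]
    exact congrArg l (Subtype.ext (by simp [← smul_pow']))
  have hVr : D.rep (v ^ r) * ee = ee := by
    rw [hB _ (hpow v)]
    have : φ v = 1 := by
      simp only [hv, d, map_mul, map_inv, hφf, smul_mul', smul_inv', inv_mul_cancel]
    rw [show l ⟨v ^ r, hpow v⟩ = 1 from this, Units.val_one, one_smul]
  -- the two relations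
  have hE1 : ee + D.sig rot * ee + D.sig rot * D.sig rot * ee = 0 := by
    have h := D.sum_st l
    rw [hst, Finset.sum_insert (by decide), Finset.sum_pair (by decide), D.sig_one, map_mul] at h
    simpa [add_mul, add_assoc] using h
  have hS : ∀ z, D.sig rot * D.rep z = D.rep (rot • z) * D.sig rot := D.compat rot
  have hE2 : ee + D.rep u * (D.sig rot * ee) + D.rep (u * v) * (D.sig rot * D.sig rot * ee) = 0 := by
    have h := congrArg (fun t => D.rep g⁻¹ * t * D.rep g) hE1
    simp only [mul_add, add_mul, mul_zero, zero_mul] at h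
    have t1 : D.rep g⁻¹ * ee * D.rep g = ee := by
      rw [hek, mul_assoc, ← map_mul, inv_mul_cancel, map_one, mul_one]
    have t2 : D.rep g⁻¹ * (D.sig rot * ee) * D.rep g = D.rep u * (D.sig rot * ee) := by
      rw [mul_assoc, mul_assoc (D.sig rot), ← hek, ← mul_assoc (D.sig rot), hS, mul_assoc (D.rep (rot • g)),
        ← mul_assoc, ← map_mul]
    have t3 : D.rep g⁻¹ * (D.sig rot * D.sig rot * ee) * D.rep g = D.rep (u * v) * (D.sig rot * D.sig rot * ee) := by
      rw [mul_assoc, mul_assoc (D.sig rot * D.sig rot), ← hek, ← mul_assoc (D.sig rot * D.sig rot),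
        mul_assoc (D.sig rot) (D.sig rot) (D.rep g), hS, ← mul_assoc (D.sig rot), hS,
        mul_assoc (D.rep (rot • rot • g)), mul_assoc (D.rep (rot • rot • g)), ← mul_assoc (D.rep g⁻¹), ← map_mul]
      congr 2
      simp [hu, hv, d, smul_mul', mul_assoc]
    rwa [t1, t2, t3] at h
  have hE3 : (D.rep v - D.rep u⁻¹) * ee + (D.rep v - 1) * (D.sig rot * ee) = 0 := by
    have h := congrArg (fun t => D.rep u⁻¹ * t) (sub_eq_zero.mpr
      (show D.rep (u * v) * (ee + D.sig rot * ee + D.sig rot * D.sig rot * ee) =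
        ee + D.rep u * (D.sig rot * ee) + D.rep (u * v) * (D.sig rot * D.sig rot * ee) by rw [hE1, hE2, mul_zero]))
    simp only [mul_add, mul_sub, mul_zero, ← mul_assoc, ← map_mul, inv_mul_cancel_left, inv_mul_cancel, map_one,
      one_mul] at h
    rw [← h]
    simp only [sub_mul, one_mul, ← mul_assoc]
    abel
  set P := ∑ i ∈ Finset.range r, D.rep v ^ i with hP
  have hPV : P * (D.rep v - 1) = D.rep (v ^ r) - 1 := by rw [map_pow]; exact geom_sum_mul _ _
  have hPVe : P * D.rep v * ee = P * ee := by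
    rw [← sub_eq_zero, ← sub_mul, ← mul_sub_one, hPV, sub_mul, one_mul, hVr, sub_self]
  have hPU : P * D.rep u⁻¹ * ee = P * ee := by
    have h := congrArg (fun t => P * t) hE3
    have h0 : (D.rep (v ^ r) - 1) * (D.sig rot * ee) = 0 := by
      rw [hSe, ← mul_assoc, sub_mul, one_mul, hVr, sub_self, zero_mul]
    simp only [mul_add, mul_zero, ← mul_assoc (b := D.rep v - 1)] at h
    rw [hPV, h0, add_zero, ← mul_assoc, mul_sub, sub_mul, hPVe, sub_eq_zero] at h
    exact h.symm
  have hswap : D.rep (u⁻¹ * v) * ee = ((ζ⁻¹ : Fˣ) : F) • (D.rep (v * u⁻¹) * ee) := by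
    have e : u⁻¹ * v = v * u⁻¹ * (u⁻¹ * v * u⁻¹⁻¹ * v⁻¹) := by rw [hc _ (hcomm u⁻¹ v) (v * u⁻¹)]; group
    rw [e, map_mul, mul_assoc, hB _ (hcomm u⁻¹ v), mul_smul_comm, hζdef, ← MonoidHom.inv_apply, ← map_inv]
    rfl
  have hκ : ((ζ⁻¹ : Fˣ) : F) • (P * ee) = P * ee := by
    have h1 : P * D.rep (u⁻¹ * v) * ee = P * ee := by
      rw [map_mul, ← mul_assoc, mul_assoc (P * D.rep u⁻¹), hek, ← mul_assoc, hPU, mul_assoc, ← hek, ← mul_assoc, hPVe]
    have h2 : P * D.rep (v * u⁻¹) * ee = P * ee := by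
      rw [map_mul, ← mul_assoc, mul_assoc (P * D.rep v), hek, ← mul_assoc, hPVe, mul_assoc, ← hek, ← mul_assoc, hPU]
    conv_lhs => rw [← h2, mul_assoc, ← mul_smul_comm, ← hswap, ← mul_assoc, h1]
  have hP0 : P * ee = 0 := by
    by_contra hne
    have h : ((((ζ⁻¹ : Fˣ) : F)) - 1) • (P * ee) = 0 := by rw [sub_smul, one_smul, hκ, sub_self]
    rcases smul_eq_zero.mp h with h | h
    · exact hζ (inv_eq_one.mp (Units.val_eq_one.mp (sub_eq_zero.mp h)))
    · exact hne h
  have hj : ∀ j, ∑ i ∈ Finset.range r, (((ζ ^ i) : Fˣ) : F) ^ j • (D.rep (v ^ i) * ee) = 0 := by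
    intro j
    have h := congrArg (fun t => D.rep (u ^ j) * t * D.rep (u ^ j)⁻¹) hP0
    simp only [hP, Finset.sum_mul, Finset.mul_sum, mul_zero, zero_mul] at h
    rw [← h]
    refine Finset.sum_congr rfl fun i _ => ?_
    have e : u ^ j * v ^ i * (u ^ j)⁻¹ = (u ^ j * v ^ i * (u ^ j)⁻¹ * (v ^ i)⁻¹) * v ^ i := by group
    rw [← map_pow D.rep v, mul_assoc (D.rep (u ^ j)), mul_assoc (D.rep (v ^ i)), ← hek, ← mul_assoc, ← mul_assoc,
      ← map_mul, ← map_mul, e, ← hc _ (hcomm _ _) (v ^ i), map_mul, mul_assoc, hB _ (hcomm _ _), mul_smul_comm]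
    congr 1
    rw [← Units.val_pow_eq_pow_val, ← pow_mul, hζdef]
    show ((c u v ^ (i * j) : Fˣ) : F) = ((c (u ^ j) (v ^ i) : Fˣ) : F)
    simp only [map_pow, MonoidHom.pow_apply, ← pow_mul]
    rw [mul_comm j i]
  have hsum : ∑ j ∈ Finset.range r, ∑ i ∈ Finset.range r, (((ζ ^ i) : Fˣ) : F) ^ j • (D.rep (v ^ i) * ee) = 0 :=
    Finset.sum_eq_zero fun j _ => hj j
  rw [Finset.sum_comm] at hsum
  simp only [← Finset.sum_smul] at hsum
  rw [Finset.sum_eq_single_of_mem 0 (Finset.mem_range.mpr hr.out.pos) (fun i hi hi0 => ?_)] at hsum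
  · simp only [pow_zero, Units.val_one, one_pow, Finset.sum_const, Finset.card_range, nsmul_one, map_one, one_mul] at hsum
    exact (smul_eq_zero.mp hsum).resolve_left hrF
  · have hord : orderOf ζ = r := orderOf_eq_prime (hcr _ _) hζ
    have hne1 : (((ζ ^ i) : Fˣ) : F) ≠ 1 := by
      rw [Ne, Units.val_eq_one, ← orderOf_dvd_iff_pow_eq_one, hord]
      exact Nat.not_dvd_of_pos_of_lt (Nat.pos_of_ne_zero hi0) (Finset.mem_range.mp hi)
    have hpow1 : (((ζ ^ i) : Fˣ) : F) ^ r = 1 := by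
      rw [← Units.val_pow_eq_pow_val, ← pow_mul, mul_comm, pow_mul, hcr, one_pow, Units.val_one]
    rw [geom_sum_eq hne1, hpow1, sub_self, zero_div, zero_smul]

end Data

end Cfsg.Agent.S3Fpf
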