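import Cfsg.Agent.Lib.Coprime.Action
import Mathlib.GroupTheory.FiniteAbelian.Duality
import Mathlib.RingTheory.RootsOfUnity.AlgebraicallyClosed
import Mathlib.GroupTheory.Perm.Fin

/-!
A symmetric group of degree 3 acting without fixed points: weights (owner: helper77).

A group `K` with an action of `S₃` of coprime order acts in an algebra `R` over an algebraically
closed field, `S₃` being represented with vanishing sum.

Main results (namespace `Cfsg.Agent.S3Fpf`):
* `Data.live_cases` : the stabilisers of the weights of an abelian normal invariant subgroup `B`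
  are constant along the orbits, and are of order 2 or 3
* `Data.eq_one_of_mem_ker` : the orbit kernels meet trivially
-/

set_option autoImplicit false

namespace Cfsg.Agent.S3Fpf

universe u v w

/-- the symmetric group -/
abbrev S3 : Type := Equiv.Perm (Fin 3)

/-- a three-cycle -/
abbrev rot : S3 := finRotate 3

set_option synthInstance.maxSize 20000 in
theorem closed_cases : ∀ s : Finset S3, 1 ∈ s → (∀ a ∈ s, ∀ b ∈ s, a * b ∈ s) →
    s = {1} ∨ (∃ τ : S3, τ ≠ 1 ∧ τ * τ = 1 ∧ s = {1, τ}) ∨ s = {1, rot, rot * rot} ∨ s = Finset.univ := by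
  decide +kernel

set_option synthInstance.maxSize 20000 in
theorem join_univ : ∀ s : Finset S3, (∀ a ∈ s, ∀ b ∈ s, a * b ∈ s) → ∀ a ∈ s, ∀ b ∈ s,
    a ≠ 1 → b ≠ 1 → b ≠ a → b ≠ a * a → s = Finset.univ := by
  decide +kernel

/-- The hypotheses. -/
structure Data (K : Type u) [Group K] [Finite K] [MulDistribMulAction S3 K] (F : Type v) [Field F]
    (R : Type w) [Ring R] [Algebra F R] where
  rep : K →* R
  sig : S3 →* R
  B : Subgroup K
  normal : B.Normal
  invariant : ∀ (a : S3), ∀ b ∈ B, a • b ∈ B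
  comm : ∀ b ∈ B, ∀ c ∈ B, b * c = c * b
  inj : Function.Injective rep
  compat : ∀ (a : S3) (g : K), sig a * rep g = rep (a • g) * sig a
  sumS : ∑ a : S3, sig a = 0
  cardB : (Nat.card B : F) ≠ 0
  coprime : (Nat.card K).Coprime 6
  fixed : ∀ g : K, (∀ a : S3, a • g = g) → g = 1

namespace Data

variable {K : Type u} [Group K] [Finite K] [MulDistribMulAction S3 K] {F : Type v} [Field F] [IsAlgClosed F]
  {R : Type w} [Ring R] [Algebra F R] (D : Data K F R)

/-- weights -/
abbrev W : Type (max u v) := D.B →* Fˣ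

theorem conj_mem (g : K) (b : D.B) : g * (b : K) * g⁻¹ ∈ D.B := D.normal.conj_mem _ b.2 g

/-- action of `K` on weights -/
def kAct (g : K) (l : D.W) : D.W where
  toFun b := l ⟨g⁻¹ * b * g, by simpa using D.conj_mem g⁻¹ b⟩
  map_one' := by
    rw [show (⟨g⁻¹ * ((1 : D.B) : K) * g, _⟩ : D.B) = 1 from Subtype.ext (by simp), map_one]
  map_mul' b c := by
    rw [← map_mul]; exact congrArg l (Subtype.ext (by simp [mul_assoc]))

/-- action of `S₃` on weights -/
def aAct (a : S3) (l : D.W) : D.W where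
  toFun b := l ⟨a⁻¹ • (b : K), D.invariant _ _ b.2⟩
  map_one' := by
    rw [show (⟨a⁻¹ • ((1 : D.B) : K), _⟩ : D.B) = 1 from Subtype.ext (by simp), map_one]
  map_mul' b c := by
    rw [← map_mul]; exact congrArg l (Subtype.ext (by simp [smul_mul']))

theorem kAct_one (l : D.W) : D.kAct 1 l = l :=
  MonoidHom.ext fun b => congrArg l (Subtype.ext (by simp))

theorem kAct_mul (g h : K) (l : D.W) : D.kAct (g * h) l = D.kAct g (D.kAct h l) :=
  MonoidHom.ext fun b => congrArg l (Subtype.ext (by simp [mul_assoc]))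

theorem aAct_one (l : D.W) : D.aAct 1 l = l :=
  MonoidHom.ext fun b => congrArg l (Subtype.ext (by simp))

theorem aAct_mul (a c : S3) (l : D.W) : D.aAct (a * c) l = D.aAct a (D.aAct c l) :=
  MonoidHom.ext fun b => congrArg l (Subtype.ext (by simp [mul_smul]))

theorem aAct_kAct (a : S3) (g : K) (l : D.W) : D.aAct a (D.kAct g l) = D.kAct (a • g) (D.aAct a l) :=
  MonoidHom.ext fun b => congrArg l (Subtype.ext (by simp [smul_mul', smul_inv']))

/-- the subgroup of `K` fixing a weight -/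
def wStab (l : D.W) : Subgroup K where
  carrier := {g | D.kAct g l = l}
  one_mem' := D.kAct_one l
  mul_mem' {g h} hg hh := by show D.kAct (g * h) l = l; rw [D.kAct_mul, hh, hg]
  inv_mem' {g} hg := by
    show D.kAct g⁻¹ l = l
    conv_lhs => rw [← (hg : D.kAct g l = l), ← D.kAct_mul, inv_mul_cancel, D.kAct_one]

/-- the orbit under `K` -/
def InOrb (l m : D.W) : Prop := ∃ g : K, D.kAct g l = m

theorem inOrb_refl (l : D.W) : D.InOrb l l := ⟨1, D.kAct_one l⟩

/-- the idempotent of a weight -/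
noncomputable def e (l : D.W) : R :=
  letI := Fintype.ofFinite D.B
  (Nat.card D.B : F)⁻¹ • ∑ b : D.B, ((l b)⁻¹ : Fˣ).val • D.rep (b : K)

theorem rep_mul_e (b : D.B) (l : D.W) : D.rep (b : K) * D.e l = (l b : F) • D.e l := by
  let _ := Fintype.ofFinite D.B
  rw [e, mul_smul_comm, smul_comm, Finset.smul_sum, Finset.mul_sum]
  congr 1
  refine Fintype.sum_equiv (Equiv.mulLeft b) _ _ fun c => ?_
  rw [mul_smul_comm, smul_smul, Equiv.coe_mulLeft, ← map_mul]
  congr 1
  rw [map_mul, ← Units.val_mul, mul_inv_rev, mul_comm (l b), mul_assoc, inv_mul_cancel, mul_one]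

theorem e_conj (g : K) (l : D.W) : D.rep g * D.e l = D.e (D.kAct g l) * D.rep g := by
  let _ := Fintype.ofFinite D.B
  rw [e, e, mul_smul_comm, smul_mul_assoc, Finset.mul_sum, Finset.sum_mul]
  congr 1
  refine Fintype.sum_equiv
    { toFun := fun b : D.B => (⟨g * b * g⁻¹, D.conj_mem g b⟩ : D.B)
      invFun := fun b : D.B => (⟨g⁻¹ * b * g, by simpa using D.conj_mem g⁻¹ b⟩ : D.B)
      left_inv := fun b => Subtype.ext (by simp [mul_assoc])
      right_inv := fun b => Subtype.ext (by simp [mul_assoc]) } _ _ fun b => ?_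
  simp only [Equiv.coe_fn_mk, mul_smul_comm, smul_mul_assoc, ← map_mul]
  rw [inv_mul_cancel_right]
  congr 2
  exact congrArg (fun x => (l x)⁻¹) (Subtype.ext (by simp [mul_assoc]))

theorem sig_e (a : S3) (l : D.W) : D.sig a * D.e l = D.e (D.aAct a l) * D.sig a := by
  let _ := Fintype.ofFinite D.B
  rw [e, e, mul_smul_comm, smul_mul_assoc, Finset.mul_sum, Finset.sum_mul]
  congr 1
  refine Fintype.sum_equiv
    { toFun := fun b : D.B => (⟨a • (b : K), D.invariant a b b.2⟩ : D.B)
      invFun := fun b : D.B => (⟨a⁻¹ • (b : K), D.invariant _ b b.2⟩ : D.B)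
      left_inv := fun b => Subtype.ext (by simp)
      right_inv := fun b => Subtype.ext (by simp) } _ _ fun b => ?_
  simp only [Equiv.coe_fn_mk, mul_smul_comm, smul_mul_assoc, D.compat]
  congr 2
  exact congrArg (fun x => (l x)⁻¹) (Subtype.ext (by simp))

theorem roots : HasEnoughRootsOfUnity F (Monoid.exponent D.B) := by
  have : NeZero (Monoid.exponent D.B : F) := by
    refine ⟨fun h => D.cardB ?_⟩
    obtain ⟨c, hc⟩ := Group.exponent_dvd_nat_card (G := D.B)
    rw [hc, Nat.cast_mul, h, zero_mul]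
  infer_instance

/-- `B` as a commutative group -/
@[reducible] def commGroupB : CommGroup D.B :=
  { (inferInstance : Group D.B) with mul_comm := fun b c => Subtype.ext (D.comm _ b.2 _ c.2) }

theorem finite_W : Finite D.W := by
  let _ := D.commGroupB
  have := D.roots
  obtain ⟨E⟩ := CommGroup.monoidHom_mulEquiv_of_hasEnoughRootsOfUnity D.B F
  exact Finite.of_equiv _ E.symm.toEquiv

theorem exists_apply_ne {b : D.B} (hb : b ≠ 1) : ∃ l : D.W, l b ≠ 1 := by
  let _ := D.commGroupB
  have := D.roots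
  exact CommGroup.exists_apply_ne_one_of_hasEnoughRootsOfUnity D.B F hb

theorem card_W : Nat.card D.W = Nat.card D.B := by
  let _ := D.commGroupB
  have := D.roots
  exact CommGroup.card_monoidHom_of_hasEnoughRootsOfUnity D.B F

theorem sum_e [Fintype D.W] : ∑ l : D.W, D.e l = 1 := by
  classical
  let _ := Fintype.ofFinite D.B
  have hz : ∀ b : D.B, ∑ l : D.W, ((l b)⁻¹ : Fˣ).val = if b = 1 then (Nat.card D.B : F) else 0 := by
    intro b
    split_ifs with hb
    · subst hb
      rw [← D.card_W, Nat.card_eq_fintype_card]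
      simp
    · obtain ⟨m, hm⟩ := D.exists_apply_ne hb
      have h : ((m b)⁻¹ : Fˣ).val * ∑ l : D.W, ((l b)⁻¹ : Fˣ).val = ∑ l : D.W, ((l b)⁻¹ : Fˣ).val := by
        rw [Finset.mul_sum]
        refine Fintype.sum_equiv (Equiv.mulLeft m) _ _ fun l => ?_
        rw [Equiv.coe_mulLeft, MonoidHom.mul_apply, mul_inv, Units.val_mul]
      by_contra hne
      have h1 := mul_right_cancel₀ hne (h.trans (one_mul _).symm)
      rw [Units.val_eq_one, inv_eq_one] at h1
      exact hm h1
  simp only [e, ← Finset.smul_sum]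
  rw [Finset.sum_comm]
  simp only [← Finset.sum_smul, hz, ite_smul, zero_smul, Finset.sum_ite_eq', Finset.mem_univ, if_true]
  rw [smul_smul, inv_mul_cancel₀ D.cardB, one_smul, Subgroup.coe_one, map_one]

theorem e_mul_e [DecidableEq D.W] (l m : D.W) : D.e l * D.e m = if l = m then D.e m else 0 := by
  classical
  let _ := Fintype.ofFinite D.B
  conv_lhs => arg 1; rw [e]
  rw [smul_mul_assoc, Finset.sum_mul]
  simp only [smul_mul_assoc, rep_mul_e, smul_smul, ← Finset.sum_smul]
  split_ifs with h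
  · subst h
    simp only [Units.inv_mul, Finset.sum_const, Finset.card_univ, nsmul_eq_mul, mul_one, ← Nat.card_eq_fintype_card]
    rw [inv_mul_cancel₀ D.cardB, one_smul]
  · obtain ⟨c, hc⟩ : ∃ c, l c ≠ m c := by
      by_contra! hh
      exact h (MonoidHom.ext hh)
    have hS : ∑ b : D.B, ((l b)⁻¹ : Fˣ).val * (m b : F) = 0 := by
      have h1 : (((l c)⁻¹ * m c : Fˣ) : F) * ∑ b : D.B, ((l b)⁻¹ : Fˣ).val * (m b : F) =
          ∑ b : D.B, ((l b)⁻¹ : Fˣ).val * (m b : F) := by
        rw [Finset.mul_sum]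
        refine Fintype.sum_equiv (Equiv.mulLeft c) _ _ fun b => ?_
        simp only [Equiv.coe_mulLeft, map_mul, mul_inv, Units.val_mul]
        ring
      by_contra hne
      have h2 := mul_right_cancel₀ hne (h1.trans (one_mul _).symm)
      rw [Units.val_eq_one, inv_mul_eq_one] at h2
      exact hc h2
    rw [hS, mul_zero, zero_smul]

/-- the kernel on an orbit -/
def ker (l : D.W) : Subgroup K where
  carrier := {g | ∀ m, D.InOrb l m → D.rep g * D.e m = D.e m}
  one_mem' m _ := by rw [map_one, one_mul]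
  mul_mem' {g h} hg hh m hm := by rw [map_mul, mul_assoc, hh m hm, hg m hm]
  inv_mem' {g} hg m hm := by
    conv_lhs => rw [← hg m hm, ← mul_assoc, ← map_mul, inv_mul_cancel, map_one, one_mul]

theorem ker_normal (l : D.W) : (D.ker l).Normal := by
  refine ⟨fun n hn g m hm => ?_⟩
  obtain ⟨x, hx⟩ := hm
  have hm' : D.InOrb l (D.kAct g⁻¹ m) := ⟨g⁻¹ * x, by rw [D.kAct_mul, hx]⟩
  rw [map_mul, mul_assoc, D.e_conj g⁻¹ m, ← mul_assoc, map_mul, mul_assoc (D.rep g), hn _ hm', D.e_conj g,
    mul_assoc, ← map_mul, mul_inv_cancel, map_one, mul_one, ← D.kAct_mul, mul_inv_cancel, D.kAct_one]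

theorem sig_mul_inv (a : S3) : D.sig a * D.sig a⁻¹ = 1 := by rw [← map_mul, mul_inv_cancel, map_one]

theorem smul_mem_ker {a : S3} {l : D.W} {g : K} (hg : g ∈ D.ker l) : a • g ∈ D.ker (D.aAct a l) := by
  intro m hm
  obtain ⟨x, hx⟩ := hm
  have hm' : D.InOrb l (D.aAct a⁻¹ m) := ⟨a⁻¹ • x, by
    rw [← hx, D.aAct_kAct, ← D.aAct_mul, inv_mul_cancel, D.aAct_one]⟩
  have h := congrArg (fun z => D.sig a * z * D.sig a⁻¹) (hg _ hm')
  simp only [← mul_assoc] at h
  rw [D.compat, mul_assoc (D.rep (a • g)), D.sig_e, ← D.aAct_mul, mul_inv_cancel, D.aAct_one, mul_assoc,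
    mul_assoc (D.e m), D.sig_mul_inv, mul_one] at h
  exact h

theorem eq_one_of_mem_ker {g : K} (h : ∀ l, D.e l ≠ 0 → g ∈ D.ker l) : g = 1 := by
  classical
  have := D.finite_W
  let _ := Fintype.ofFinite D.W
  refine D.inj ?_
  rw [map_one, ← mul_one (D.rep g), ← D.sum_e, Finset.mul_sum]
  refine Finset.sum_congr rfl fun l _ => ?_
  by_cases hl : D.e l = 0
  · rw [hl, mul_zero]
  · exact h l hl l (D.inOrb_refl l)

theorem e_ne_zero_kAct {l : D.W} (hl : D.e l ≠ 0) (g : K) : D.e (D.kAct g l) ≠ 0 := by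
  intro h
  apply hl
  have h1 := D.e_conj g l
  rw [h, zero_mul] at h1
  rw [← one_mul (D.e l), ← map_one D.rep, ← inv_mul_cancel g, map_mul, mul_assoc, h1, mul_zero]

open Classical in
/-- stabiliser of a weight in `S₃` -/
noncomputable def st (l : D.W) : Finset S3 := Finset.univ.filter fun a => D.aAct a l = l

theorem mem_st {a : S3} {l : D.W} : a ∈ D.st l ↔ D.aAct a l = l := by simp [st]

theorem sum_st (l : D.W) : (∑ a ∈ D.st l, D.sig a) * D.e l = 0 := by
  classical
  have h : D.e l * (∑ a : S3, D.sig a) * D.e l = 0 := by rw [D.sumS, mul_zero, zero_mul]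
  rw [Finset.mul_sum, Finset.sum_mul] at h
  rw [Finset.sum_mul]
  refine Eq.trans ?_ h
  simp only [mul_assoc, D.sig_e, st, Finset.sum_filter]
  refine Finset.sum_congr rfl fun a _ => ?_
  rw [← mul_assoc, D.e_mul_e]
  split_ifs with h1 h2 h3
  · rfl
  · exact absurd h1.symm h2
  · exact absurd h3.symm h1
  · rw [zero_mul]

include D in
theorem coprime_card : (Nat.card S3).Coprime (Nat.card K) := by
  rw [Nat.card_perm, Nat.card_fin]
  exact D.coprime.symm

open scoped commutatorElement in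
theorem solvableS3 : Group.IsSolvable S3 := by
  have hsq : ∀ a b : S3, ⁅a, b⁆ ^ 3 = 1 ∧ ⁅⁅a, b⁆, ⁅b, a⁆⁆ = 1 := by decide +kernel
  refine ⟨2, ?_⟩
  rw [derivedSeries_succ, derivedSeries_succ, derivedSeries_zero, eq_bot_iff,
    Subgroup.commutator_le]
  have hle : ⁅(⊤ : Subgroup S3), ⊤⁆ ≤ Subgroup.zpowers rot := by
    rw [Subgroup.commutator_le]
    have : ∀ a b : S3, ⁅a, b⁆ = 1 ∨ ⁅a, b⁆ = rot ∨ ⁅a, b⁆ = rot * rot := by decide +kernel
    intro a _ b _
    rcases this a b with h | h | h <;> rw [h]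
    · exact one_mem _
    · exact Subgroup.mem_zpowers _
    · exact mul_mem (Subgroup.mem_zpowers _) (Subgroup.mem_zpowers _)
  intro a ha b hb
  obtain ⟨i, rfl⟩ := Subgroup.mem_zpowers_iff.mp (hle ha)
  obtain ⟨j, rfl⟩ := Subgroup.mem_zpowers_iff.mp (hle hb)
  rw [Subgroup.mem_bot, commutatorElement_eq_one_iff_commute]
  exact (Commute.zpow_zpow_self rot i j)

/-- permutation of weights by `K` -/
def kPerm : K →* Equiv.Perm D.W where
  toFun g :=
    { toFun := D.kAct g
      invFun := D.kAct g⁻¹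
      left_inv := fun l => by rw [← D.kAct_mul, inv_mul_cancel, D.kAct_one]
      right_inv := fun l => by rw [← D.kAct_mul, mul_inv_cancel, D.kAct_one] }
  map_one' := Equiv.ext D.kAct_one
  map_mul' g h := Equiv.ext (D.kAct_mul g h)

/-- permutation of weights by `S₃` -/
def aPerm : S3 →* Equiv.Perm D.W where
  toFun g :=
    { toFun := D.aAct g
      invFun := D.aAct g⁻¹
      left_inv := fun l => by rw [← D.aAct_mul, inv_mul_cancel, D.aAct_one]
      right_inv := fun l => by rw [← D.aAct_mul, mul_inv_cancel, D.aAct_one] }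
  map_one' := Equiv.ext D.aAct_one
  map_mul' g h := Equiv.ext (D.aAct_mul g h)

theorem perm_compat (a : S3) (g : K) : D.kPerm (a • g) = D.aPerm a * D.kPerm g * (D.aPerm a)⁻¹ := by
  rw [eq_mul_inv_iff_mul_eq]
  exact Equiv.ext fun l => (D.aAct_kAct a g l).symm

theorem exists_fixed_weight {l : D.W} (h : ∀ a : S3, D.InOrb l (D.aAct a l)) :
    ∃ m, D.InOrb l m ∧ ∀ a : S3, D.aAct a m = m := by
  let ψ : Coprime.toSemi S3 K →* Equiv.Perm D.W :=
    SemidirectProduct.lift D.kPerm D.aPerm fun a => MonoidHom.ext fun g => D.perm_compat a g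
  letI : MulAction (Coprime.toSemi S3 K) D.W := MulAction.compHom _ ψ
  have : Finite (Coprime.toSemi S3 K) := Finite.of_equiv _ SemidirectProduct.equivProd.symm
  have hinr : ∀ (a : S3) (m : D.W), (SemidirectProduct.inr a : Coprime.toSemi S3 K) • m = D.aAct a m := fun a m => by
    show ψ (SemidirectProduct.inr a) m = _
    rw [SemidirectProduct.lift_inr]; rfl
  have hinl : ∀ (g : K) (m : D.W), (SemidirectProduct.inl g : Coprime.toSemi S3 K) • m = D.kAct g m := fun g m => by
    show ψ (SemidirectProduct.inl g) m = _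
    rw [SemidirectProduct.lift_inl]; rfl
  obtain ⟨m, hm, hfix⟩ := Coprime.exists_fixed_point (Coprime.embA_le_normalizer S3 K)
    (by rw [Coprime.card_embA, Coprime.card_embK]; exact D.coprime_card)
    (Coprime.hsolv_emb (Or.inl solvableS3)) {m | D.InOrb l m} ⟨l, D.inOrb_refl l⟩
    (by
      rintro _ ⟨a, rfl⟩ _ ⟨g, rfl⟩
      obtain ⟨x, hx⟩ := h a
      exact ⟨a • g * x, by rw [D.kAct_mul, hx, hinr, D.aAct_kAct]⟩)
    (by
      rintro _ ⟨g', rfl⟩ _ ⟨g, rfl⟩
      exact ⟨g' * g, by rw [hinl, D.kAct_mul]⟩)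
    (by
      rintro _ ⟨g, rfl⟩ _ ⟨g', rfl⟩
      exact ⟨SemidirectProduct.inl (g' * g⁻¹), ⟨_, rfl⟩,
        by rw [hinl, ← D.kAct_mul, inv_mul_cancel_right]⟩)
  exact ⟨m, hm, fun a => by rw [← hinr]; exact hfix _ ⟨a, rfl⟩⟩

theorem eq_one_of_fixed {l : D.W} (h : ∀ a : S3, D.aAct a l = l) : l = 1 := by
  classical
  refine MonoidHom.ext fun b => ?_
  let _ := D.commGroupB
  set p : D.B := ∏ a : S3, (⟨a • (b : K), D.invariant a b b.2⟩ : D.B) with hp
  have hfix : p = 1 := by
    refine Subtype.ext (D.fixed _ fun c => ?_)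
    let φ : D.B →* D.B := MonoidHom.mk' (fun x => ⟨c • (x : K), D.invariant c x x.2⟩)
      (fun x y => Subtype.ext (smul_mul' c (x : K) y))
    have hperm : φ p = p := by
      rw [hp, map_prod]
      exact Fintype.prod_equiv (Equiv.mulLeft c) _ _ fun a => Subtype.ext (mul_smul c a (b : K)).symm
    exact congrArg Subtype.val hperm
  have h6 : l b ^ Nat.card S3 = 1 := by
    rw [Nat.card_eq_fintype_card, ← Finset.card_univ, ← Finset.prod_const, ← map_one l, ← hfix, hp, map_prod]
    refine Finset.prod_congr rfl fun a _ => ?_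
    conv_rhs => rw [← h a]
    exact congrArg l (Subtype.ext (inv_smul_smul a (b : K)).symm)
  have hK : l b ^ Nat.card K = 1 := by
    rw [← map_pow, ← map_one l]
    exact congrArg l (Subtype.ext pow_card_eq_one')
  have := pow_gcd_eq_one.mpr ⟨h6, hK⟩
  rw [D.coprime_card.gcd_eq_one, pow_one] at this
  exact this

/-- weights that count -/
def Live (l : D.W) : Prop := D.e l ≠ 0 ∧ l ≠ 1

theorem live_kAct {l : D.W} (hl : D.Live l) (g : K) : D.Live (D.kAct g l) := by
  refine ⟨D.e_ne_zero_kAct hl.1 g, fun h => hl.2 ?_⟩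
  rw [← D.kAct_one l, ← inv_mul_cancel g, D.kAct_mul, h]
  exact MonoidHom.ext fun b => rfl

/-- stabilisers of live weights -/
theorem st_cases {l : D.W} (hl : D.Live l) :
    (∃ τ : S3, τ ≠ 1 ∧ τ * τ = 1 ∧ D.st l = {1, τ}) ∨ D.st l = {1, rot, rot * rot} := by
  rcases closed_cases (D.st l) (D.mem_st.mpr (D.aAct_one l))
    (fun a ha b hb => D.mem_st.mpr (by rw [D.aAct_mul, D.mem_st.mp hb, D.mem_st.mp ha])) with h | h | h | h
  · exfalso
    apply hl.1
    have := D.sum_st l
    rwa [h, Finset.sum_singleton, map_one, one_mul] at this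
  · exact Or.inl h
  · exact Or.inr h
  · exfalso
    apply hl.2
    have h1 : l = 1 := D.eq_one_of_fixed fun a => D.mem_st.mp (by rw [h]; exact Finset.mem_univ a)
    exact h1

/-- the stabiliser is constant along an orbit -/
theorem st_kAct {l : D.W} (hl : D.Live l) (g : K) : D.st (D.kAct g l) = D.st l := by
  classical
  set S := Finset.univ.filter fun a : S3 => D.InOrb l (D.aAct a l) with hS
  have hclosed : ∀ a ∈ S, ∀ b ∈ S, a * b ∈ S := by
    intro a ha b hb
    simp only [hS, Finset.mem_filter, Finset.mem_univ, true_and] at ha hb ⊢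
    obtain ⟨x, hx⟩ := ha
    obtain ⟨y, hy⟩ := hb
    exact ⟨a • y * x, by rw [D.kAct_mul, hx, ← D.aAct_kAct, hy, ← D.aAct_mul]⟩
  have hsub : ∀ x : K, ∀ a ∈ D.st (D.kAct x l), a ∈ S := by
    intro x a ha
    simp only [hS, Finset.mem_filter, Finset.mem_univ, true_and]
    have h := D.mem_st.mp ha
    rw [D.aAct_kAct] at h
    refine ⟨(a • x)⁻¹ * x, ?_⟩
    rw [D.kAct_mul, ← h, ← D.kAct_mul, inv_mul_cancel, D.kAct_one]
  have hlive := D.live_kAct hl g
  have hne : S ≠ Finset.univ := by
    intro hu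
    obtain ⟨m, ⟨x, rfl⟩, hfix⟩ := D.exists_fixed_weight fun a => by
      have := hu.ge (Finset.mem_univ a)
      simp only [hS, Finset.mem_filter, Finset.mem_univ, true_and] at this
      exact this
    exact (D.live_kAct hl x).2 (D.eq_one_of_fixed hfix)
  have hl' : ∀ a ∈ D.st l, a ∈ S := fun a ha => hsub 1 a (by rwa [D.kAct_one])
  rcases D.st_cases hl with ⟨τ, hτ, hτ2, e1⟩ | e1 <;> rcases D.st_cases hlive with ⟨υ, hυ, hυ2, e2⟩ | e2
  · rcases eq_or_ne υ τ with rfl | hne'
    · rw [e1, e2]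
    · exact absurd (join_univ S hclosed τ (hl' _ (by simp [e1])) υ (hsub g _ (by simp [e2])) hτ hυ hne'
        (by rw [hτ2]; exact hυ)) hne
  · exfalso
    refine hne (join_univ S hclosed τ (hl' _ (by simp [e1])) rot (hsub g _ (by simp [e2])) hτ (by decide) ?_
      (by rw [hτ2]; decide))
    intro h; rw [← h] at hτ2; exact absurd hτ2 (by decide)
  · exfalso
    refine hne (join_univ S hclosed υ (hsub g _ (by simp [e2])) rot (hl' _ (by simp [e1])) hυ (by decide) ?_
      (by rw [hυ2]; decide))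
    intro h; rw [← h] at hυ2; exact absurd hυ2 (by decide)
  · rw [e1, e2]

end Data

end Cfsg.Agent.S3Fpf
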